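import Cfsg.Agent.Lib.Helper11.P6o.Model
import Cfsg.Agent.Lib.Helper11.SimpleModel

set_option autoImplicit false
set_option maxRecDepth 100000

namespace Cfsg.Agent.Lib.Helper11.P6o

open Cfsg.Spor Cfsg.Agent.Lib.Helper11.P6 Cfsg.Agent.Lib.Helper11.P6a

set_option maxHeartbeats 0

def primL : List (ℕ × ℕ × WExp × ℕ) := [(28, 3, (.l 2), 8), (28, 3, (.mul (.l 2) (.mul (.l 3) (.mul (.l 1) (.l 2)))), 8), (168, 4, (.mul (.l 2) (.mul (.l 3) (.mul (.l 4) (.mul (.l 3) (.l 2))))), 6), (168, 4, (.mul (.l 2) (.mul (.l 3) (.mul (.l 4) (.mul (.l 5) (.mul (.l 3) (.mul (.l 4) (.mul (.l 3) (.l 2)))))))), 5), (336, 4, (.mul (.l 2) (.mul (.l 3) (.mul (.l 4) (.mul (.l 5) (.mul (.l 3) (.mul (.l 4) (.mul (.l 2) (.mul (.l 3) (.mul (.l 1) (.l 2)))))))))), 5), (336, 4, (.mul (.l 2) (.mul (.l 3) (.mul (.l 4) (.mul (.l 5) (.mul (.l 1) (.mul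 (.l 2) (.mul (.l 3) (.mul (.l 4) (.mul (.l 3) (.l 2)))))))))), 5), (336, 4, (.mul (.l 2) (.mul (.l 3) (.mul (.l 4) (.mul (.l 5) (.mul (.l 1) (.mul (.l 2) (.mul (.l 3) (.mul (.l 4) (.mul (.l 2) (.mul (.l 3) (.mul (.l 1) (.l 2)))))))))))), 5), (672, 4, (.mul (.l 2) (.mul (.l 3) (.mul (.l 4) (.mul (.l 5) (.mul (.l 6) (.mul (.l 3) (.mul (.l 4) (.mul (.l 5) (.mul (.l 2) (.mul (.l 3) (.mul (.l 4) (.mul (.l 3) (.l 2))))))))))))), 4), (84, 4, (.mul (.l 2) (.mul (.l 3) (.mul (.l 4) (.mul (.l 1) (.mul (.l 2) (.mul (.l 3) (.mul (.l 4) (.mul (.l 5) (.mul (.l 4) (.mul (.l 3) (.mul (.l 4) (.mul (.l 2) (.mul (.l 3) (.mul (.l 1) (.l 2))))))))))))))), 5), (168, 4, (.mul (.l 2) (.mul (.l 3) (.mul (.l 4) (.mul (.l 5) (.mul (.l 3) (.mul (.l 4) (.mul (.l 2) (.mul (.l 3) (.mul (.l 4) (.mul (.l 5) (.mul (.l 2) (.mul (.l 3) (.mul (.l 4)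 (.mul (.l 3) (.l 2))))))))))))))), 4), (168, 4, (.mul (.l 2) (.mul (.l 3) (.mul (.l 4) (.mul (.l 1) (.mul (.l 2) (.mul (.l 3) (.mul (.l 4) (.mul (.l 5) (.mul (.l 4) (.mul (.l 2) (.mul (.l 3) (.mul (.l 4) (.mul (.l 2) (.mul (.l 3) (.mul (.l 1) (.l 2)))))))))))))))), 4), (168, 4, (.mul (.l 2) (.mul (.l 3) (.mul (.l 4) (.mul (.l 5) (.mul (.l 3) (.mul (.l 4) (.mul (.l 2) (.mul (.l 3) (.mul (.l 4) (.mul (.l 5) (.mul (.l 2) (.mul (.l 3) (.mul (.l 4) (.mul (.l 3) (.mul (.l 1) (.l 2)))))))))))))))), 4), (336, 4, (.mul (.l 2) (.mul (.l 3) (.mul (.l 4) (.mul (.l 5) (.mul (.l 3) (.mul (.l 4) (.mul (.l 2) (.mul (.l 3) (.mul (.l 4) (.mul (.l 5) (.mul (.l 1) (.mul (.l 2) (.mul (.l 3) (.mul (.l 4) (.mul (.l 3) (.l 2)))))))))))))))), 4), (672, 4, (.mul (.l 2) (.mul (.l 3) (.mul (.l 4) (.mul (.l 5) (.mul (.l 6) (.mul (.l 1) (.mul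 (.l 2) (.mul (.l 3) (.mul (.l 4) (.mul (.l 5) (.mul (.l 2) (.mul (.l 3) (.mul (.l 4) (.mul (.l 2) (.mul (.l 3) (.mul (.l 1) (.l 2))))))))))))))))), 4), (336, 4, (.mul (.l 2) (.mul (.l 3) (.mul (.l 4) (.mul (.l 5) (.mul (.l 3) (.mul (.l 4) (.mul (.l 2) (.mul (.l 3) (.mul (.l 4) (.mul (.l 5) (.mul (.l 2) (.mul (.l 3) (.mul (.l 4) (.mul (.l 2) (.mul (.l 3) (.mul (.l 1) (.l 2))))))))))))))))), 4), (672, 4, (.mul (.l 2) (.mul (.l 3) (.mul (.l 4) (.mul (.l 5) (.mul (.l 3) (.mul (.l 4) (.mul (.l 2) (.mul (.l 3) (.mul (.l 4) (.mul (.l 5) (.mul (.l 1) (.mul (.l 2) (.mul (.l 3) (.mul (.l 4) (.mul (.l 3) (.mul (.l 1) (.l 2))))))))))))))))), 4), (336, 4, (.mul (.l 2) (.mul (.l 3) (.mul (.l 4) (.mul (.l 5) (.mul (.l 1) (.mul (.l 2) (.mul (.l 3) (.mul (.l 4) (.mul (.l 2) (.mul (.l 3) (.mul (.l 4) (.mul (.l 5) (.mul (.l 2) (.mul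 (.l 3) (.mul (.l 4) (.mul (.l 3) (.l 2))))))))))))))))), 4), (168, 4, (.mul (.l 2) (.mul (.l 3) (.mul (.l 4) (.mul (.l 5) (.mul (.l 3) (.mul (.l 4) (.mul (.l 3) (.mul (.l 4) (.mul (.l 2) (.mul (.l 3) (.mul (.l 4) (.mul (.l 5) (.mul (.l 1) (.mul (.l 2) (.mul (.l 3) (.mul (.l 4) (.mul (.l 3) (.l 2)))))))))))))))))), 4), (48, 2, (.mul (.l 2) (.mul (.l 3) (.mul (.l 4) (.mul (.l 1) (.mul (.l 2) (.mul (.l 3) (.mul (.l 4) (.mul (.l 5) (.mul (.l 4) (.mul (.l 3) (.mul (.l 4) (.mul (.l 2) (.mul (.l 3) (.mul (.l 4) (.mul (.l 5) (.mul (.l 4) (.mul (.l 2) (.mul (.l 3) (.mul (.l 4) (.mul (.l 2) (.mul (.l 3) (.mul (.l 1) (.l 2))))))))))))))))))))))), 4), (84, 4, (.mul (.l 2) (.mul (.l 3) (.mul (.l 4) (.mul (.l 5) (.mul (.l 3) (.mul (.l 4) (.mul (.l 2) (.mul (.l 3) (.mul (.l 4) (.mul (.l 5) (.mul (.l 2) (.mul (.l 3) (.mul (.l 4)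 (.mul (.l 2) (.mul (.l 3) (.mul (.l 4) (.mul (.l 5) (.mul (.l 2) (.mul (.l 3) (.mul (.l 4) (.mul (.l 3) (.mul (.l 1) (.l 2))))))))))))))))))))))), 4), (84, 3, (.mul (.l 2) (.mul (.l 3) (.mul (.l 4) (.mul (.l 5) (.mul (.l 3) (.mul (.l 4) (.mul (.l 2) (.mul (.l 3) (.mul (.l 4) (.mul (.l 5) (.mul (.l 4) (.mul (.l 2) (.mul (.l 3) (.mul (.l 4) (.mul (.l 2) (.mul (.l 3) (.mul (.l 4) (.mul (.l 5) (.mul (.l 2) (.mul (.l 3) (.mul (.l 4) (.mul (.l 3) (.l 2))))))))))))))))))))))), 4), (168, 4, (.mul (.l 2) (.mul (.l 3) (.mul (.l 4) (.mul (.l 5) (.mul (.l 3) (.mul (.l 4) (.mul (.l 2) (.mul (.l 3) (.mul (.l 4) (.mul (.l 5) (.mul (.l 6) (.mul (.l 4) (.mul (.l 1) (.mul (.l 2) (.mul (.l 3) (.mul (.l 4) (.mul (.l 5) (.mul (.l 2) (.mul (.l 3) (.mul (.l 4) (.mul (.l 2) (.mul (.l 3) (.mul (.l 1) (.l 2)))))))))))))))))))))))), 4), (21,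 4, (.mul (.l 2) (.mul (.l 3) (.mul (.l 4) (.mul (.l 5) (.mul (.l 3) (.mul (.l 4) (.mul (.l 2) (.mul (.l 3) (.mul (.l 4) (.mul (.l 5) (.mul (.l 1) (.mul (.l 2) (.mul (.l 3) (.mul (.l 4) (.mul (.l 3) (.mul (.l 4) (.mul (.l 5) (.mul (.l 6) (.mul (.l 4) (.mul (.l 1) (.mul (.l 2) (.mul (.l 3) (.mul (.l 4) (.mul (.l 5) (.mul (.l 2) (.mul (.l 3) (.mul (.l 4) (.mul (.l 2) (.mul (.l 3) (.mul (.l 1) (.l 2))))))))))))))))))))))))))))))), 5)]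
theorem primOK : primChk (ntOf ntl) INVm (hExps.map (fun e => e.letters INVm)) 5586 1 primL = true := by
  decide +kernel
def tE : WExp := .l 1
theorem normOK : normChk (ntOf ntl) 13 (hExps.map (fun e => e.letters INVm)) (tE.letters INVm)
    ((WExp.inv tE).letters INVm) = true := by decide +kernel


end Cfsg.Agent.Lib.Helper11.P6o
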